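import Mathlib

/-!
Sums of squares of numbers prime to `p`: when every value is taken a multiple of `p` times and
`p ^ 2` divides the sum of the squares, there are at least `2 p` terms, and at least `3 p` when
`p ≡ 3 (mod 4)`.
-/

namespace Cfsg.Agent.Transfer.HeightAut

open Finset

theorem sq_two : ∀ x : ZMod 2, x ≠ 0 → x ^ 2 = 1 := by decide

theorem sq_three : ∀ x : ZMod 3, x ≠ 0 → x ^ 2 = 1 := by decide

theorem dvd_card_of_sq {ι : Type*} (S : Finset ι) (f : ι → ℕ) {p : ℕ} [Fact p.Prime] (hp : p ≤ 3)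
    (hf : ∀ i ∈ S, ¬ p ∣ f i) (hs : p ∣ ∑ i ∈ S, f i ^ 2) : p ∣ S.card := by
  have hpp : p.Prime := Fact.out
  have h1 : ∀ i ∈ S, ((f i : ZMod p)) ^ 2 = 1 := fun i hi => by
    have hne : (f i : ZMod p) ≠ 0 := fun h => hf i hi ((ZMod.natCast_eq_zero_iff _ _).1 h)
    have h2 := hpp.two_le
    interval_cases p
    · exact sq_two _ hne
    · exact sq_three _ hne
  have h := (ZMod.natCast_eq_zero_iff _ p).2 hs
  rw [Nat.cast_sum, Finset.sum_congr rfl (g := fun _ => (1 : ZMod p)) fun i hi => by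
    rw [Nat.cast_pow, h1 i hi]] at h
  simp only [Finset.sum_const, nsmul_eq_mul, mul_one] at h
  exact (ZMod.natCast_eq_zero_iff _ _).1 h

theorem card_ge_of_sq {ι : Type*} [DecidableEq ι] (S : Finset ι) (f : ι → ℕ) {p : ℕ}
    [Fact p.Prime] (hp : p ≠ 2) (hne : S.Nonempty) (hf : ∀ i ∈ S, ¬ p ∣ f i)
    (hfib : ∀ n, p ∣ (S.filter fun i => f i = n).card) (hs : p ^ 2 ∣ ∑ i ∈ S, f i ^ 2) :
    2 * p ≤ S.card ∧ (p % 4 = 3 → 3 * p ≤ S.card) := by
  have hpp : p.Prime := Fact.out
  obtain ⟨i, hi⟩ := hne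
  set A := S.filter fun j => f j = f i with hA
  set R := S.filter fun j => ¬ f j = f i with hR
  have hsplit : S.card = A.card + R.card := (Finset.card_filter_add_card_filter_not _).symm
  have hsum : ∑ j ∈ S, f j ^ 2 = A.card * f i ^ 2 + ∑ j ∈ R, f j ^ 2 := by
    rw [← Finset.sum_filter_add_sum_filter_not S (fun j => f j = f i)]
    congr 1
    rw [Finset.sum_congr rfl (g := fun _ => f i ^ 2) fun j hj => by rw [(Finset.mem_filter.1 hj).2],
      Finset.sum_const, smul_eq_mul]
  obtain ⟨a, ha⟩ := hfib (f i)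
  rw [← hA] at ha
  have ha0 : 0 < a := by
    have : 0 < A.card := Finset.card_pos.2 ⟨i, Finset.mem_filter.2 ⟨hi, rfl⟩⟩
    rw [ha] at this
    exact Nat.pos_of_mul_pos_left this
  have hndvd : ∀ a : ℕ, 0 < a → a < p → ∀ j ∈ S, ¬ p ^ 2 ∣ p * a * f j ^ 2 := by
    intro a ha0 hap j hj h
    rw [sq, mul_assoc p a, Nat.mul_dvd_mul_iff_left hpp.pos] at h
    rcases hpp.dvd_mul.1 h with h | h
    · exact absurd (Nat.le_of_dvd ha0 h) (by omega)
    · exact hf j hj (hpp.dvd_of_dvd_pow h)
  rcases Finset.eq_empty_or_nonempty R with hR0 | ⟨j, hj⟩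
  · rw [hsum, hR0, Finset.sum_empty, add_zero, ha] at hs
    have hap : p ≤ a := by
      by_contra h
      exact hndvd a ha0 (by omega) i hi hs
    rw [hsplit, hR0, Finset.card_empty, ha]
    have h3 : 3 ≤ p := by have := hpp.two_le; omega
    exact ⟨by nlinarith, fun _ => by nlinarith⟩
  · set A' := R.filter fun k => f k = f j with hA'
    have hjS : j ∈ S := (Finset.mem_filter.1 hj).1
    have hA'eq : A' = S.filter fun k => f k = f j := by
      ext k
      simp only [hA', hR, Finset.mem_filter]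
      exact ⟨fun h => ⟨h.1.1, h.2⟩, fun h => ⟨⟨h.1, h.2.symm ▸ (Finset.mem_filter.1 hj).2⟩, h.2⟩⟩
    obtain ⟨b, hb⟩ := hfib (f j)
    rw [← hA'eq] at hb
    have hb0 : 0 < b := by
      have : 0 < A'.card := Finset.card_pos.2 ⟨j, Finset.mem_filter.2 ⟨hj, rfl⟩⟩
      rw [hb] at this
      exact Nat.pos_of_mul_pos_left this
    have hsub : A'.card ≤ R.card := Finset.card_filter_le _ _
    refine ⟨by rw [hsplit]; nlinarith, fun h4 => ?_⟩
    by_contra hlt
    rw [hsplit] at hlt
    have ha1 : a = 1 := by nlinarith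
    have hb1 : b = 1 := by nlinarith
    subst ha1 hb1
    have hRA : A' = R := by
      refine Finset.eq_of_subset_of_card_le (Finset.filter_subset _ _) ?_
      by_contra hlt'
      -- a further value is taken at least `p` times
      obtain ⟨k, hk, hk'⟩ := Finset.exists_of_ssubset
        (Finset.ssubset_iff_subset_ne.2 ⟨Finset.filter_subset _ R, fun h => hlt' (le_of_eq (congrArg Finset.card h.symm))⟩)
      have hkR : f k ≠ f i := (Finset.mem_filter.1 hk).2
      have hkj : f k ≠ f j := fun h => hk' (Finset.mem_filter.2 ⟨hk, h⟩)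
      have hC : (S.filter fun l => f l = f k) ⊆ R \ A' := by
        intro l hl
        rw [Finset.mem_filter] at hl
        refine Finset.mem_sdiff.2 ⟨Finset.mem_filter.2 ⟨hl.1, hl.2 ▸ hkR⟩, fun h => ?_⟩
        exact hkj (hl.2.symm.trans (Finset.mem_filter.1 h).2)
      have hC1 := Finset.card_le_card hC
      rw [Finset.card_sdiff_of_subset (Finset.filter_subset _ _), ← hA'] at hC1
      simp only [mul_one] at ha hb
      have hC2 : p ≤ (S.filter fun l => f l = f k).card :=
        Nat.le_of_dvd (Finset.card_pos.2 ⟨k, Finset.mem_filter.2 ⟨(Finset.mem_filter.1 hk).1, rfl⟩⟩)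
          (hfib _)
      omega
    have hRsum : ∑ k ∈ R, f k ^ 2 = p * f j ^ 2 := by
      rw [← hRA, Finset.sum_congr rfl (g := fun _ => f j ^ 2) fun k hk => by
        rw [(Finset.mem_filter.1 hk).2], Finset.sum_const, smul_eq_mul, hb, mul_one]
    rw [hsum, hRsum, ha, mul_one, ← mul_add, sq p, Nat.mul_dvd_mul_iff_left hpp.pos] at hs
    have hz := (ZMod.natCast_eq_zero_iff _ p).2 hs
    push_cast at hz
    have hv : (f i : ZMod p) ≠ 0 := fun h => hf i hi ((ZMod.natCast_eq_zero_iff _ _).1 h)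
    refine ZMod.mod_four_ne_three_of_sq_eq_neg_one (y := (f j : ZMod p) / (f i : ZMod p)) ?_ h4
    rw [div_pow, div_eq_iff (pow_ne_zero 2 hv)]
    linear_combination hz

end Cfsg.Agent.Transfer.HeightAut
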