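import Cfsg.Agent.Lib.Char.StarCount

/-!
The twists by linear characters keep degrees: among the characters of height zero of a block, every
degree occurs a multiple of the index of the focal subgroup times.
-/

namespace Cfsg.Agent.Transfer.HeightAut

open Cfsg.Agent.Block Cfsg.Agent.Char Cfsg.Agent.Char.BP Cfsg.Agent.Char.Spec Cfsg.Agent.Char.Star

set_option linter.unusedSectionVars false
set_option linter.style.haveILetI false
set_option maxHeartbeats 1000000

universe u

variable {G : Type u} [Group G] [Fintype G] [DecidableEq G] {p : ℕ} [Fact p.Prime] {M : Ideal AlgInt}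
variable {B : Set (IrrCharacter G)} {P : Subgroup G} {e : Set (IrrCharacter (CG P))}
  {F : FusionSystem P}

/-- The characters of height zero of one degree. -/
abbrev DegSet (p : ℕ) (B : Set (IrrCharacter G)) (n : ℕ) : Type u :=
  {χ : HeightSet p B 0 // charDegree (χ.1 : G → ℂ) = n}

theorem twist_degree (hM : IsPModular p M) (hF : IsBlockFusionSystemOn p M B P e F) {l : P →* ℂˣ}
    (hl : TrivFoc F l) {χ η : IrrCharacter G} (hχ : χ ∈ B)
    (he : (η : G → ℂ) = star p M (lamW p M P e l) (χ : G → ℂ)) :
    charDegree (η : G → ℂ) = charDegree (χ : G → ℂ) := by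
  have h1 : (η : G → ℂ) 1 = (χ : G → ℂ) 1 := by
    rw [he]
    exact star_regular hM hF hl hχ (by simp [(Fact.out : p.Prime).ne_one])
  simp only [charDegree, h1]

theorem index_dvd_degSet (hM : IsPModular p M) (hF : IsBlockFusionSystemOn p M B P e F) (n : ℕ) :
    (F.focalSubgroup.subgroupOf P).index ∣ Nat.card (DegSet p B n) := by
  classical
  haveI := focal_normal hM hF
  set N := F.focalSubgroup.subgroupOf P with hN
  letI : CommGroup (P ⧸ N) :=
    { (inferInstance : Group (P ⧸ N)) with mul_comm := quot_comm hM hF }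
  let lam : ((P ⧸ N) →* ℂˣ) → (P →* ℂˣ) := fun c => c.comp (QuotientGroup.mk' N)
  have htriv : ∀ c, TrivFoc F (lam c) := fun c x hx => by
    show c (x : P ⧸ N) = 1
    rw [(QuotientGroup.eq_one_iff x).2 hx, map_one]
  have hmul : ∀ c d, lam (c * d) = lam c * lam d := fun c d => rfl
  let act : MulAction ((P ⧸ N) →* ℂˣ) (DegSet p B n) :=
    { smul := fun c χ => ⟨⟨(exists_twist hM hF (htriv c) χ.1.2.1).choose,
        (exists_twist hM hF (htriv c) χ.1.2.1).choose_spec.1,
        (exists_twist hM hF (htriv c) χ.1.2.1).choose_spec.2.2.trans χ.1.2.2⟩,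
        (twist_degree hM hF (htriv c) χ.1.2.1
          (exists_twist hM hF (htriv c) χ.1.2.1).choose_spec.2.1).trans χ.2⟩
      one_smul := fun χ => Subtype.ext (Subtype.ext (Subtype.ext
        ((exists_twist hM hF (htriv 1) χ.1.2.1).choose_spec.2.1.trans (star_one hM hF χ.1.2.1))))
      mul_smul := fun c d χ => Subtype.ext (Subtype.ext (Subtype.ext (by
        refine (exists_twist hM hF (htriv (c * d)) χ.1.2.1).choose_spec.2.1.trans ?_
        refine Eq.trans ?_ ((exists_twist hM hF (htriv c)
          (exists_twist hM hF (htriv d) χ.1.2.1).choose_spec.1).choose_spec.2.1).symm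
        rw [hmul]
        exact (star_star hM hF (htriv d) (exists_twist hM hF (htriv d) χ.1.2.1).choose_spec.2.1
          (lam c)).symm))) }
  letI := act
  have hcard : ∀ (A : Type u) [CommGroup A] [Finite A], Nat.card (A →* ℂˣ) = Nat.card A := by
    intro A _ _
    haveI : NeZero (Monoid.exponent A) := ⟨Monoid.exponent_ne_zero_of_finite⟩
    exact CommGroup.card_monoidHom_of_hasEnoughRootsOfUnity A ℂ
  haveI : Finite ((P ⧸ N) →* ℂˣ) :=
    Nat.finite_of_card_ne_zero (by rw [hcard]; exact Nat.card_pos.ne')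
  have hstab : ∀ χ : DegSet p B n, MulAction.stabilizer ((P ⧸ N) →* ℂˣ) χ ≤ ⊥ := by
    intro χ c hc
    rw [Subgroup.mem_bot]
    refine MonoidHom.ext fun z => ?_
    induction z using QuotientGroup.induction_on with
    | _ v =>
      have he : ((c • χ).1.1 : G → ℂ) = star p M (lamW p M P e (lam c)) (χ.1.1 : G → ℂ) :=
        (exists_twist hM hF (htriv c) χ.1.2.1).choose_spec.2.1
      rw [MulAction.mem_stabilizer_iff.1 hc] at he
      obtain ⟨a, ha, hle⟩ := exists_le hM (c := (⟨P, e⟩ : BrauerPairIdx G)) hF.1.1.1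
        (Q := Subgroup.zpowers (v : G)) (Subgroup.zpowers_le.2 v.2)
      have haB : OfB p M B a := (ofB_le hM hle).1 hF.1.1
      obtain ⟨t, ht1, ht2, ht3⟩ := exists_sct_ne_zero hM χ.1.2.1 χ.1.2.2 ha haB
      have := eq_one_of_fixed hM hF (htriv c) he v ha hle (mem_regs.2 ⟨ht1, ht2⟩) ht3
      exact this
  have h := index_dvd_card_of_stabilizer_le ⊥ hstab
  rwa [Subgroup.index_bot, hcard, ← Subgroup.index_eq_card] at h

end Cfsg.Agent.Transfer.HeightAut
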