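import Cfsg.Agent.Lib.Transfer.HeightAut.Fibre
import Cfsg.Agent.Lib.Transfer.HeightAut.Arith
import Cfsg.Agent.Lib.Char.DecompDegrees
import Cfsg.Agent.Lib.Char.PairSaturated
import Cfsg.Agent.Lib.Fus.FocalProper

/-!
A block whose defect group has a `p`-group of automorphisms: the number of its characters of height
zero is a multiple of `p`, and at least `2 p` (`3 p` for `p ≡ 3 (mod 4)`) when `p > 3`.
-/

namespace Cfsg.Agent.Transfer.HeightAut

open Cfsg.Agent.Block Cfsg.Agent.Char Cfsg.Agent.Char.BP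

set_option linter.unusedSectionVars false
set_option linter.style.haveILetI false
set_option maxHeartbeats 1000000

universe u

variable {G : Type u} [Group G] [Fintype G] {p : ℕ} [Fact p.Prime] {M : Ideal AlgInt}
variable {B : Set (IrrCharacter G)}

/-- The characters of height zero of a block, as a finite set. -/
noncomputable def zeros (p : ℕ) (B : Set (IrrCharacter G)) : Finset (IrrCharacter G) :=
  (Set.toFinite {χ : IrrCharacter G | χ ∈ B ∧ blockHeight p B (χ : G → ℂ) = 0}).toFinset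

theorem mem_zeros {χ : IrrCharacter G} :
    χ ∈ zeros p B ↔ χ ∈ B ∧ blockHeight p B (χ : G → ℂ) = 0 := by simp [zeros]

theorem card_zeros : (zeros p B).card =
    Nat.card {χ : IrrCharacter G // χ ∈ B ∧ blockHeight p B (χ : G → ℂ) = 0} := by
  rw [← Nat.card_eq_finsetCard]
  exact Nat.card_congr (Equiv.subtypeEquivRight fun χ => mem_zeros)

/-- The degree without the common power of `p`. -/
noncomputable def red (p : ℕ) (B : Set (IrrCharacter G)) (χ : IrrCharacter G) : ℕ :=
  charDegree (χ : G → ℂ) / p ^ ((Nat.card G).factorization p - blockDefect p B)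

theorem deg_eq (hM : IsPModular p M) (hB : IsPBlock M B) {χ : IrrCharacter G} (hχ : χ ∈ B) :
    charDegree (χ : G → ℂ) =
        p ^ ((Nat.card G).factorization p - blockDefect p B) * red p B χ ∧
      (p ∣ red p B χ ↔ blockHeight p B (χ : G → ℂ) ≠ 0) := by
  have hp : p.Prime := Fact.out
  set c := (Nat.card G).factorization p - blockDefect p B with hc
  have hle := le_defect_add hM hB hχ
  have hd : p ^ c ∣ charDegree (χ : G → ℂ) :=
    (hp.pow_dvd_iff_le_factorization (charDeg_pos χ).ne').2 (by omega)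
  refine ⟨(Nat.mul_div_cancel' hd).symm, ?_⟩
  rw [red, ← hc, Nat.dvd_div_iff_mul_dvd hd, ← pow_succ,
    hp.pow_dvd_iff_le_factorization (charDeg_pos χ).ne', ne_eq, blockHeight_zero_iff hM hB hχ]
  have := blockDefect_le (p := p) B
  omega

/-- The squares of the reduced degrees of the characters of height zero. -/
theorem sq_dvd (hM : IsPModular p M) (hB : IsPBlock M B) {k : ℕ} (hk : k ≤ 2)
    (hkd : k ≤ blockDefect p B) : p ^ k ∣ ∑ χ ∈ zeros p B, red p B χ ^ 2 := by
  classical
  have hp : p.Prime := Fact.out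
  set a := (Nat.card G).factorization p with ha
  set d := blockDefect p B with hd
  set U := Finset.univ.filter (fun χ : IrrCharacter G => χ ∈ B) with hU
  have hval := DegSum.sum_sq_valuation hM hB
  rw [← hU, ← ha, ← hd] at hval
  obtain ⟨χ₀, hχ₀, -⟩ := exists_height_zero hM hB
  have hpos : 0 < ∑ χ ∈ U, charDegree (χ : G → ℂ) ^ 2 :=
    Finset.sum_pos (fun χ _ => pow_pos (charDeg_pos χ) 2) ⟨χ₀, by simp [hU, hχ₀]⟩
  have hsum : ∑ χ ∈ U, charDegree (χ : G → ℂ) ^ 2 =
      p ^ (2 * (a - d)) * ∑ χ ∈ U, red p B χ ^ 2 := by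
    rw [Finset.mul_sum]
    refine Finset.sum_congr rfl fun χ hχ => ?_
    rw [(deg_eq hM hB (Finset.mem_filter.1 hχ).2).1, mul_pow, ← pow_mul, mul_comm (a - d) 2]
  have hle : d ≤ a := blockDefect_le B
  have h1 : p ^ d ∣ ∑ χ ∈ U, red p B χ ^ 2 := by
    have h : p ^ (2 * (a - d)) * p ^ d ∣ ∑ χ ∈ U, charDegree (χ : G → ℂ) ^ 2 := by
      rw [← pow_add, hp.pow_dvd_iff_le_factorization hpos.ne', hval]
      omega
    rw [hsum] at h
    exact (Nat.mul_dvd_mul_iff_left (pow_pos hp.pos _)).1 h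
  have hz : zeros p B = U.filter (fun χ => ¬ p ∣ red p B χ) := by
    ext χ
    rw [mem_zeros, Finset.mem_filter, hU, Finset.mem_filter]
    constructor
    · intro h
      exact ⟨⟨Finset.mem_univ _, h.1⟩, fun h' => (deg_eq hM hB h.1).2.1 h' h.2⟩
    · intro h
      exact ⟨h.1.2, by
        by_contra h'
        exact h.2 ((deg_eq hM hB h.1.2).2.2 h')⟩
  have h2 := (pow_dvd_pow p hkd).trans h1
  rw [← Finset.sum_filter_add_sum_filter_not U (fun χ => ¬ p ∣ red p B χ)] at h2
  rw [hz]
  refine (Nat.dvd_add_left (Finset.dvd_sum fun χ hχ => ?_)).1 h2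
  refine (pow_dvd_pow p hk).trans (pow_dvd_pow_of_dvd ?_ 2)
  simpa using (Finset.mem_filter.1 hχ).2

theorem main (hM : IsPModular p M) (hB : IsPBlock M B) {D : Subgroup G}
    (hD : IsDefectGroup p M B D) (hD1 : D ≠ ⊥) (hAut : IsPGroup p (MulAut ↥D)) :
    p ∣ (zeros p B).card ∧ (3 < p → 2 * p ≤ (zeros p B).card) ∧
      (3 < p → p % 4 = 3 → 3 * p ≤ (zeros p B).card) := by
  classical
  have hp : p.Prime := Fact.out
  have hcard := card_defectGroup hM hB hD
  have hd0 : 1 ≤ blockDefect p B := by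
    refine Nat.one_le_iff_ne_zero.2 fun h => hD1 ?_
    rw [← Subgroup.card_eq_one, hcard, h, pow_zero]
  have hdiv : ∀ χ ∈ zeros p B, ¬ p ∣ red p B χ := fun χ hχ h => by
    obtain ⟨h1, h2⟩ := mem_zeros.1 hχ
    exact (deg_eq hM hB h1).2.1 h h2
  have h1 : p ∣ ∑ χ ∈ zeros p B, red p B χ ^ 2 := by
    simpa using sq_dvd hM hB (k := 1) (by norm_num) hd0
  by_cases h3 : p ≤ 3
  · exact ⟨dvd_card_of_sq _ _ h3 hdiv h1, fun h => absurd h (by omega), fun h => absurd h (by omega)⟩
  have h5 : 5 ≤ p := by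
    rcases Nat.eq_or_lt_of_le (show 4 ≤ p by omega) with h | h
    · exact absurd (h ▸ hp) (by norm_num)
    · omega
  -- the defect is at least two
  have hDp : IsPGroup p D := IsPGroup.of_card hcard
  have hd2 : 2 ≤ blockDefect p B := by
    by_contra hlt
    have hD' : Nat.card D = p := by rw [hcard, show blockDefect p B = 1 by omega, pow_one]
    haveI : IsCyclic D := isCyclic_of_prime_card hD'
    obtain ⟨k, hk⟩ := IsPGroup.iff_card.1 hAut
    rw [IsCyclic.card_mulAut, hD', Nat.totient_prime hp] at hk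
    rcases Nat.eq_zero_or_pos k with rfl | hk0
    · rw [pow_zero] at hk; omega
    · have : p ∣ p - 1 := hk ▸ dvd_pow_self p hk0.ne'
      exact absurd (Nat.le_of_dvd (by omega) this) (by omega)
  -- a maximal pair and its fusion system
  obtain ⟨f, hf⟩ := (exists_pair_iff hM hB hDp).2
    ((not_brZero_iff hM hB hD hDp).2 ⟨1, by rw [map_conj_one]⟩)
  have hx := max_of_defect hM hf hD
  obtain ⟨F, hF, hsat⟩ := exists_saturated hM hx
  have hfoc : F.focalSubgroup < D :=
    Fus.focal_lt h5 _ G D F hDp hsat hD1 (hAut.to_subgroup _) rfl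
  set N := F.focalSubgroup.subgroupOf D with hN
  have hidx : p ∣ N.index := by
    obtain ⟨k, hk⟩ := (Nat.dvd_prime_pow hp).1 (hcard ▸ N.index_dvd_card)
    rcases Nat.eq_zero_or_pos k with h0 | h0
    · have htop : N = ⊤ := Subgroup.index_eq_one.1 (by rw [hk.2, h0, pow_zero])
      exact absurd (Subgroup.subgroupOf_eq_top.1 htop) (not_le_of_gt hfoc)
    · exact hk.2 ▸ dvd_pow_self p h0.ne'
  have hall : p ∣ (zeros p B).card := by
    rw [card_zeros]
    exact hidx.trans (Star.dvd_card_height_zero hM hF)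
  have hfib : ∀ n, p ∣ ((zeros p B).filter fun χ => red p B χ = n).card := by
    intro n
    rw [← Nat.card_eq_finsetCard]
    have e : DegSet p B (p ^ ((Nat.card G).factorization p - blockDefect p B) * n) ≃
        {χ // χ ∈ (zeros p B).filter fun χ => red p B χ = n} :=
      { toFun := fun χ => ⟨χ.1.1, Finset.mem_filter.2 ⟨mem_zeros.2 χ.1.2, by
          have h := χ.2
          rw [(deg_eq hM hB χ.1.2.1).1] at h
          exact Nat.eq_of_mul_eq_mul_left (pow_pos hp.pos _) h⟩⟩
        invFun := fun χ => ⟨⟨χ.1, mem_zeros.1 (Finset.mem_filter.1 χ.2).1⟩, by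
          obtain ⟨h1, h2⟩ := Finset.mem_filter.1 χ.2
          rw [(deg_eq hM hB (mem_zeros.1 h1).1).1, h2]⟩
        left_inv := fun χ => rfl
        right_inv := fun χ => rfl }
    rw [← Nat.card_congr e]
    exact hidx.trans (index_dvd_degSet hM hF _)
  obtain ⟨χ₀, hχ₀, h0⟩ := exists_height_zero hM hB
  have h := card_ge_of_sq (zeros p B) (red p B) (by omega) ⟨χ₀, mem_zeros.2 ⟨hχ₀, h0⟩⟩ hdiv hfib
    (sq_dvd hM hB le_rfl hd2)
  exact ⟨hall, fun _ => h.1, fun _ => h.2⟩

end Cfsg.Agent.Transfer.HeightAut
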